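import Cfsg.Agent.H788.NB.TwE6
import Cfsg.Agent.H71.Wf.Tools
import Cfsg.Agent.H774.Wf.QsRange
import Cfsg.Agent.H169.DP.TraceE6

/-!
# S3826, row `²E₆(q)`, `3 ∤ q`: the final part (helper110, tasks 4032 / 4276)

`L = LL` is the subgroup generated by the root groups orthogonal to the highest root `rho` of the relative `F₄` system.

* `eq_one` : an automorphism trivial on all short root groups is trivial;
* `qs_LL`, `LL_ne_top`;
* `mem_TL` : the centralizer of `X rho`, `X (-rho)` lies in `T ⊔ L`;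
* `LL_inv` : automorphisms preserving a subgroup `A ≥ X (±rho)` which centralises `L` preserve `L`;
* `exists_move` : an automorphism `c ≠ 1` which preserves such a group `A` has a conjugate under `Inn` which preserves
  `L` and is nontrivial on `L`;
* `row_of` : the row.
-/

set_option autoImplicit false
set_option linter.unusedSectionVars false

namespace Cfsg.Agent.H110.Wf6

universe u

open CoxeterSystem Cfsg Cfsg.Lie Cfsg.Agent.ChevalleyStructure
  Cfsg.Agent.ChevalleyStructure.TwistedU Cfsg.Agent.ChevalleyStructure.TwistedFix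
  Cfsg.Agent.ChevalleyStructure.CoxeterGeom Cfsg.Agent.Tits.Roots Cfsg.Agent.Tits.Core
open Cfsg.Agent.Nodes.Reps Cfsg.Agent.Nodes.BNOf Cfsg.Agent.Nodes.Coroot Cfsg.Agent.Nodes.Bruhat
  Cfsg.Agent.Nodes.RGDTwGen Cfsg.Agent.Nodes.RGDFold Cfsg.Agent.Nodes.RGDTwE6
  Cfsg.Agent.Nodes.RGDTwComE6 Cfsg.Agent.Nodes.RGDTwCoordE6 Cfsg.Agent.Nodes.RGDTwActE6
open Cfsg.Agent.KFacts.RgdPar Cfsg.Agent.KFacts.RgdTI
open Cfsg.Agent.KFacts.TwESix.Comb (bf rts mem_rts bf_rep rho rho_root rho_long bf_rho exists_rep_long cpr_rho cpr_long)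
open Cfsg.Agent.GenExc
open scoped commutatorElement

/-- every short root is orthogonal to `rho` or to a long root orthogonal to `rho` -/
theorem frame : ∀ x ∈ rts, bf x x = 2 → x 0 = 0 ∨ ∃ b ∈ rts, bf b b = 4 ∧ b 0 = 0 ∧ bf x b = 0 := by
  decide +kernel

/-- every long root is the sum of two short roots -/
theorem split : ∀ x ∈ rts, bf x x = 4 → ∃ y ∈ rts, ∃ z ∈ rts, Qv y = 2 ∧ Qv z = 2 ∧ Qv x = 4 ∧ y + z = x := by
  decide +kernel

theorem Qv_bf : ∀ x ∈ rts, Qv x = bf x x := by decide +kernel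

variable {K : Type} [Field K] [Fintype K] {q : ℕ} {φ : K →+* K} (hφ : ∀ x, φ x = x ^ q)
  (hqq : ∀ t : K, (t ^ q) ^ q = t) {W : Type*} [Group W] (cs : CoxeterSystem CoxeterMatrix.F₄ W)

include hφ hqq in
/-- An automorphism which is trivial on the short root groups is trivial. -/
theorem eq_one (hK : Fintype.card K = q ^ 2) (hq : 1 < q) (c : MulAut ↥(twistedE6 K q))
    (hc : ∀ z ∈ rts, bf z z = 2 → ∀ x ∈ X φ q z, c x = x) : c = 1 := by
  let cs : CoxeterSystem CoxeterMatrix.F₄ CoxeterMatrix.F₄.Group := CoxeterMatrix.F₄.toCoxeterSystem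
  have hc' : ∀ z, IsRoot cs isCartan z → ∀ x ∈ X φ q z, c x = x := by
    intro z hz x hx
    rcases Cfsg.Agent.KFacts.TwESix.Comb.norm cs hz with h | h
    · obtain ⟨y, hy, w, hw, h1, h2, h3, rfl⟩ := split z ((mem_rts cs).1 hz) h
      obtain ⟨a, ha, b, hb, rfl⟩ := Cfsg.Agent.H169.DP.TwE6.exists_comm_long (cs := cs) hφ hqq hK hq
        ((mem_rts cs).2 hy) ((mem_rts cs).2 hw) hz h1 h2 h3 hx
      rw [map_commutatorElement, hc y hy (by rw [← Qv_bf y hy]; exact h1) a ha,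
        hc w hw (by rw [← Qv_bf w hw]; exact h2) b hb]
    · exact hc z ((mem_rts cs).1 hz) h x hx
  have h1 : Cfsg.Agent.Nodes.RGDLib.G1 cs isCartan (X φ q) ≤
      (c.toMonoidHom).eqLocus (MonoidHom.id ↥(twistedE6 K q)) := by
    refine RGD.Sup_le fun z hz x hx => ?_
    exact hc' z hz x hx
  rw [Cfsg.Agent.Nodes.RGDTwE6.G1_eq_top (cs := cs) hφ hqq, top_le_iff] at h1
  ext1 x
  have h2 : x ∈ (c.toMonoidHom).eqLocus (MonoidHom.id ↥(twistedE6 K q)) := by
    rw [h1]; exact Subgroup.mem_top x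
  exact h2

/-- the subgroup `L` -/
noncomputable abbrev LL (φ : K →+* K) (q : ℕ) : Subgroup ↥(twistedE6 K q) := HL cs isCartan (X φ q) TwE.f3

theorem mem_LR {z : Fin 4 → ℤ} : z ∈ Cfsg.Agent.GenExc.LR cs isCartan TwE.f3 ↔ z ∈ rts ∧ z 0 = 0 := by
  rw [TwE.sub3.mem_LR]
  simp

theorem X_le_LL {z : Fin 4 → ℤ} (hz : z ∈ rts) (h0 : z 0 = 0) : X φ q z ≤ LL cs φ q :=
  X_le_HL TwE.f3 ((mem_LR cs).2 ⟨hz, h0⟩)

include hφ hqq in
theorem qs_LL (hq : 1 < q) (hK : Fintype.card K = q ^ 2) : Cfsg.Agent.H533.Wf.QS (LL cs φ q) := by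
  obtain ⟨r, hr, hcp⟩ : ∃ p : ℕ, p.Prime ∧ CharP K p := by
    obtain ⟨p, hcp⟩ := CharP.exists K
    exact ⟨p, CharP.char_is_prime K p, hcp⟩
  have : Fact r.Prime := ⟨hr⟩
  have hQ := Cfsg.Agent.H788.NB.TwE6.isQuasisimple hφ hqq hq hK cs r
  have h1 : (LL cs φ q).subtype.range = LL cs φ q := Subgroup.range_subtype _
  have h4 := Cfsg.Agent.H774.Wf.qs_range hQ (LL cs φ q).subtype (by
    rw [h1]
    intro h2
    have hmem : (sr 1 : Fin 4 → ℤ) ∈ rts := (mem_rts cs).1 (isRoot_sr cs isCartan 1)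
    have h3 : X φ q (sr 1) ≤ LL cs φ q := X_le_LL cs hmem (by simp [sr])
    rw [h2, le_bot_iff] at h3
    exact X_ne_bot (rgd cs hφ hqq r) (isRoot_sr cs isCartan 1) h3)
  rwa [h1] at h4

include hφ hqq in
/-- the centralizer of `X rho` and `X (-rho)` -/
theorem mem_TL {g : ↥(twistedE6 K q)} (h1 : ∀ x ∈ X φ q rho, g * x = x * g)
    (h2 : ∀ x ∈ X φ q (-rho), g * x = x * g) : g ∈ T K q ⊔ LL cs φ q := by
  obtain ⟨r, hr, hcp⟩ : ∃ p : ℕ, p.Prime ∧ CharP K p := by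
    obtain ⟨p, hcp⟩ := CharP.exists K
    exact ⟨p, CharP.char_is_prime K p, hcp⟩
  have : Fact r.Prime := ⟨hr⟩
  have : Finite W := Cfsg.Agent.KFacts.TwESix.Comb.finiteW cs
  have hl : bf (-rho) (-rho) = 4 := by decide +kernel
  have L1 := Cfsg.Agent.KFacts.TwESix.Grp.lr_long cs hφ hqq r (rho_root cs) rho_long
  have L2 := Cfsg.Agent.KFacts.TwESix.Grp.lr_long cs hφ hqq r (rho_root cs).neg hl
  have hg : g ∈ GG cs isCartan (T K q) (X φ q) := by
    rw [Cfsg.Agent.KFacts.RgdRigid.GG_eq_top (Cfsg.Agent.Nodes.RGDTwE6.G1_eq_top (cs := cs) hφ hqq)]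
    exact Subgroup.mem_top g
  have key : ∀ {a : Fin 4 → ℤ} (L : Cfsg.Agent.KFacts.RgdTI.LR (rgd cs hφ hqq r) a), (∀ x ∈ X φ q a, g * x = x * g) →
      g ∈ PS (T K q) (X φ q) (Ge cs isCartan a) := by
    intro a L hc
    rw [← L.normalizer]
    refine Subgroup.mem_inf.2 ⟨?_, hg⟩
    apply Subgroup.centralizer_le_normalizer
    rw [Subgroup.mem_centralizer_iff]
    exact fun x hx => (hc x hx).symm
  have h3 := (inter (rgd cs hφ hqq r) [ell cs isCartan (rho_root cs), ell cs isCartan (rho_root cs).neg]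
    hg (by
      intro f hf
      rw [List.mem_cons, List.mem_singleton] at hf
      rcases hf with rfl | rfl
      · exact key L1 h1
      · exact key L2 h2)).1
  refine (sup_le_sup_left (RGD.Sup_mono fun x hx => ?_) (T K q)) h3
  obtain ⟨hx1, hx2⟩ := hx
  refine (mem_LR cs).2 ⟨(mem_rts cs).1 hx1, ?_⟩
  have e1 : 0 ≤ cpr cs isCartan x rho := hx2 _ List.mem_cons_self
  have e2 : 0 ≤ cpr cs isCartan x (-rho) := hx2 _ (List.mem_cons_of_mem _ List.mem_cons_self)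
  rw [cpr_rho] at e1
  rw [cpr_neg_right cs isCartan _ (rho_root cs), cpr_rho] at e2
  omega

include hφ hqq in
/-- automorphisms preserving `A` preserve `L` -/
theorem LL_inv (hq : 1 < q) (hK : Fintype.card K = q ^ 2) {A : Subgroup ↥(twistedE6 K q)} (hA1 : X φ q rho ≤ A)
    (hA2 : X φ q (-rho) ≤ A) (hA3 : ∀ a ∈ A, ∀ l ∈ LL cs φ q, a * l = l * a) {c : MulAut ↥(twistedE6 K q)}
    (hc : ∀ a ∈ A, c a ∈ A) : ∀ l ∈ LL cs φ q, c l ∈ LL cs φ q := by
  have hQ := qs_LL hφ hqq cs hq hK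
  obtain ⟨r, hr, hcp⟩ : ∃ p : ℕ, p.Prime ∧ CharP K p := by
    obtain ⟨p, hcp⟩ := CharP.exists K
    exact ⟨p, CharP.char_is_prime K p, hcp⟩
  have : Fact r.Prime := ⟨hr⟩
  set C : Subgroup ↥(twistedE6 K q) := Subgroup.centralizer (A : Set ↥(twistedE6 K q)) with hC
  have hLC : LL cs φ q ≤ C := by
    intro l hl
    rw [hC, Subgroup.mem_centralizer_iff]
    exact fun a ha => hA3 a ha l hl
  have hCT : C ≤ T K q ⊔ LL cs φ q := by
    intro g hg
    rw [hC, Subgroup.mem_centralizer_iff] at hg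
    exact mem_TL hφ hqq cs (fun x hx => (hg x (hA1 hx)).symm) fun x hx => (hg x (hA2 hx)).symm
  have hTn : T K q ≤ Subgroup.normalizer (LL cs φ q : Set ↥(twistedE6 K q)) :=
    (rgd cs hφ hqq r).T_le_normalizer fun x hx => hx.1
  have hcc : ⁅C, C⁆ = LL cs φ q := by
    apply le_antisymm
    · refine (Subgroup.commutator_mono hCT hCT).trans ?_
      rw [Subgroup.commutator_le]
      intro g hg k hk
      have hN : T K q ⊔ LL cs φ q ≤ Subgroup.normalizer (LL cs φ q : Set ↥(twistedE6 K q)) :=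
        sup_le hTn Subgroup.le_normalizer
      have hn : ∀ n ∈ T K q ⊔ LL cs φ q, ∀ l ∈ LL cs φ q, n * l * n⁻¹ ∈ LL cs φ q := fun n hn' l hl =>
        (Subgroup.mem_normalizer_iff.1 (hN hn') l).1 hl
      have hg' : g ∈ ((T K q ⊔ LL cs φ q : Subgroup ↥(twistedE6 K q)) : Set ↥(twistedE6 K q)) := hg
      have hk' : k ∈ ((T K q ⊔ LL cs φ q : Subgroup ↥(twistedE6 K q)) : Set ↥(twistedE6 K q)) := hk
      rw [Subgroup.coe_mul_of_left_le_normalizer_right _ _ hTn, Set.mem_mul] at hg' hk'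
      obtain ⟨t, ht, a, ha, rfl⟩ := hg'
      obtain ⟨s, hs, b, hb, rfl⟩ := hk'
      have hts : t * s = s * t := Cfsg.Agent.UGT.U2.FOne.TwESix.comm_T ht hs
      have hT' : ∀ n ∈ T K q, n ∈ T K q ⊔ LL cs φ q := fun n hn' => Subgroup.mem_sup_left hn'
      have h5 : s⁻¹ * t⁻¹ * s = t⁻¹ := by
        rw [← mul_inv_rev, hts, mul_inv_rev]; group
      have e : ⁅t * a, s * b⁆ = (t * a * t⁻¹) * ((t * s) * (b * a⁻¹) * (t * s)⁻¹ ) * (s * b⁻¹ * s⁻¹) := by
        have e1 : (t * a * t⁻¹) * ((t * s) * (b * a⁻¹) * (t * s)⁻¹ ) * (s * b⁻¹ * s⁻¹) =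
            t * a * s * b * a⁻¹ * (s⁻¹ * t⁻¹ * s) * b⁻¹ * s⁻¹ := by group
        rw [e1, h5, commutatorElement_def]; group
      rw [e]
      exact mul_mem (mul_mem (hn _ (hT' t ht) _ ha)
        (hn _ (mul_mem (hT' t ht) (hT' s hs)) _ (mul_mem hb (inv_mem ha)))) (hn _ (hT' s hs) _ (inv_mem hb))
    · rw [← hQ.perfect]
      exact Subgroup.commutator_mono hLC hLC
  have hcA : A.map c.toMonoidHom = A := by
    have h1 : A.map c.toMonoidHom ≤ A := by
      rintro _ ⟨a, ha, rfl⟩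
      exact hc a ha
    refine Subgroup.eq_of_le_of_card_ge h1 ?_
    rw [Subgroup.card_map_of_injective c.injective]
  have hcC : C.map c.toMonoidHom = C := by
    have h1 : C.map c.toMonoidHom ≤ C := by
      rintro _ ⟨g, hg, rfl⟩
      rw [hC, SetLike.mem_coe, Subgroup.mem_centralizer_iff] at hg
      rw [hC, Subgroup.mem_centralizer_iff]
      intro a ha
      have ha' : a ∈ A.map c.toMonoidHom := by rw [hcA]; exact ha
      obtain ⟨b, hb, rfl⟩ := ha'
      rw [← map_mul, ← map_mul, hg b hb]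
    refine Subgroup.eq_of_le_of_card_ge h1 ?_
    rw [Subgroup.card_map_of_injective c.injective]
  intro l hl
  have h1 : (LL cs φ q).map c.toMonoidHom = LL cs φ q := by
    rw [← hcc, Subgroup.map_commutator, hcC]
  rw [← h1]
  exact Subgroup.mem_map_of_mem _ hl

/-- a long root is conjugate to `rho` -/
theorem exists_w {b : Fin 4 → ℤ} (hb : b ∈ rts) (hl : bf b b = 4) : ∃ w : W, rep cs isCartan w rho = b := by
  obtain ⟨w₁, h1⟩ := exists_rep_long cs (rho_root cs) rho_long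
  obtain ⟨w₂, h2⟩ := exists_rep_long cs ((mem_rts cs).2 hb) hl
  refine ⟨w₂ * w₁⁻¹, ?_⟩
  rw [← h1, rep_mul_apply, rep_inv_apply, h2]

theorem neg_mem {b : Fin 4 → ℤ} (hb : b ∈ rts) : -b ∈ rts :=
  (mem_rts CoxeterMatrix.F₄.toCoxeterSystem).1 ((mem_rts CoxeterMatrix.F₄.toCoxeterSystem).2 hb).neg

include hφ hqq in
/-- **The nontriviality.** -/
theorem exists_move (hq : 1 < q) (hK : Fintype.card K = q ^ 2) {A : Subgroup ↥(twistedE6 K q)}
    (hA1 : X φ q rho ≤ A) (hA2 : X φ q (-rho) ≤ A) (hA3 : ∀ a ∈ A, ∀ l ∈ LL cs φ q, a * l = l * a)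
    {c : MulAut ↥(twistedE6 K q)} (hc : ∀ a ∈ A, c a ∈ A) (hc1 : c ≠ 1) :
    ∃ g : ↥(twistedE6 K q), (∀ l ∈ LL cs φ q, (MulAut.conj g * c * (MulAut.conj g)⁻¹) l ∈ LL cs φ q) ∧
      ∃ l ∈ LL cs φ q, (MulAut.conj g * c * (MulAut.conj g)⁻¹) l ≠ l := by
  obtain ⟨r, hr, hcp⟩ : ∃ p : ℕ, p.Prime ∧ CharP K p := by
    obtain ⟨p, hcp⟩ := CharP.exists K
    exact ⟨p, CharP.char_is_prime K p, hcp⟩
  have : Fact r.Prime := ⟨hr⟩
  have R := rgd cs hφ hqq r
  by_contra hcon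
  push Not at hcon
  -- the elements `g` for which the conjugate preserves `L`
  have key : ∀ g : ↥(twistedE6 K q), (∀ a ∈ X φ q rho, c (g⁻¹ * a * g) = g⁻¹ * a * g) →
      (∀ a ∈ X φ q (-rho), c (g⁻¹ * a * g) = g⁻¹ * a * g) → ∀ l ∈ LL cs φ q, c (g⁻¹ * l * g) = g⁻¹ * l * g := by
    intro g h1 h2 l hl
    have hap : ∀ x, (MulAut.conj g * c * (MulAut.conj g)⁻¹) x = g * c (g⁻¹ * x * g) * g⁻¹ := by
      intro x
      rw [MulAut.mul_apply, MulAut.mul_apply, MulAut.conj_inv_apply, MulAut.conj_apply]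
    have h3 : ∀ a ∈ X φ q rho ⊔ X φ q (-rho), (MulAut.conj g * c * (MulAut.conj g)⁻¹) a = a := by
      have h4 : X φ q rho ⊔ X φ q (-rho) ≤
          ((MulAut.conj g * c * (MulAut.conj g)⁻¹).toMonoidHom).eqLocus (MonoidHom.id ↥(twistedE6 K q)) := by
        refine sup_le (fun a ha => ?_) fun a ha => ?_
        · show (MulAut.conj g * c * (MulAut.conj g)⁻¹) a = a
          rw [hap, h1 a ha]; group
        · show (MulAut.conj g * c * (MulAut.conj g)⁻¹) a = a
          rw [hap, h2 a ha]; group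
      exact fun a ha => h4 ha
    have hA' : X φ q rho ⊔ X φ q (-rho) ≤ A := sup_le hA1 hA2
    have h5 := LL_inv hφ hqq cs hq hK (A := X φ q rho ⊔ X φ q (-rho)) le_sup_left le_sup_right
      (fun a ha => hA3 a (hA' ha)) (c := MulAut.conj g * c * (MulAut.conj g)⁻¹)
      (fun a ha => by rw [h3 a ha]; exact ha)
    have h6 := hcon g h5 l hl
    rw [hap] at h6
    calc c (g⁻¹ * l * g) = g⁻¹ * (g * c (g⁻¹ * l * g) * g⁻¹) * g := by group
      _ = g⁻¹ * l * g := by rw [h6]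
  have hL : ∀ l ∈ LL cs φ q, c l = l := by
    intro l hl
    have h5 := LL_inv hφ hqq cs hq hK hA1 hA2 hA3 hc
    have h6 := hcon 1 (by simpa using h5) l hl
    simpa using h6
  apply hc1
  refine eq_one hφ hqq hK hq c fun z hz hzz x hx => ?_
  rcases frame z hz hzz with h0 | ⟨b, hb, hbb, hb0, hzb⟩
  · exact hL x (X_le_LL cs hz h0 hx)
  · obtain ⟨w, hw⟩ := exists_w cs hb hbb
    obtain ⟨n, hn⟩ := exists_rp cs R.nsys w
    have hz' : IsRoot cs isCartan z := (mem_rts cs).2 hz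
    have h1 : n⁻¹ * x * n ∈ X φ q (rep cs isCartan w⁻¹ z) := R.conj_mem' hn hz' hx
    have h2 : rep cs isCartan w⁻¹ z ∈ rts := (mem_rts cs).1 (hz'.act _)
    have h3 : (rep cs isCartan w⁻¹ z) 0 = 0 := by
      have h4 := bf_rho (rep cs isCartan w⁻¹ z)
      have h5 : bf (rep cs isCartan w⁻¹ z) rho = bf z b := by
        rw [← bf_rep cs w, rep_apply_inv, hw]
      rw [h5, hzb] at h4
      omega
    have h4 := key n⁻¹ (fun a ha => hL _ ?_) (fun a ha => hL _ ?_) _ (X_le_LL cs h2 h3 h1)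
    · rw [inv_inv] at h4
      have e : n * (n⁻¹ * x * n) * n⁻¹ = x := by group
      rwa [e] at h4
    · rw [inv_inv]
      have h5 := R.conj_mem hn (rho_root cs) ha
      rw [hw] at h5
      exact X_le_LL cs hb hb0 h5
    · rw [inv_inv]
      have h5 := R.conj_mem hn (rho_root cs).neg ha
      rw [map_neg, hw] at h5
      exact X_le_LL cs (neg_mem hb) (by rw [Pi.neg_apply, hb0, neg_zero]) h5

include hφ hqq in
theorem LL_ne_top [IsSimpleGroup ↥(twistedE6 K q)] (hq : 1 < q) (hK : Fintype.card K = q ^ 2) :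
    LL cs φ q ≠ ⊤ := by
  obtain ⟨r, hr, hcp⟩ : ∃ p : ℕ, p.Prime ∧ CharP K p := by
    obtain ⟨p, hcp⟩ := CharP.exists K
    exact ⟨p, CharP.char_is_prime K p, hcp⟩
  have : Fact r.Prime := ⟨hr⟩
  have : Finite W := Cfsg.Agent.KFacts.TwESix.Comb.finiteW cs
  intro htop
  have hQ := qs_LL hφ hqq cs hq hK
  have L1 := Cfsg.Agent.KFacts.TwESix.Grp.lr_long cs hφ hqq r (rho_root cs) rho_long
  have h1 : LL cs φ q ≤ Subgroup.centralizer (X φ q rho : Set ↥(twistedE6 K q)) := by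
    refine (RGD.Sup_mono fun x hx => ?_).trans L1.Sup_le_centralizer
    obtain ⟨h2, h3⟩ := (mem_LR cs).1 hx
    refine ⟨(mem_rts cs).2 h2, ?_⟩
    rw [cpr_rho, h3]
  have h2 : X φ q rho ≤ Subgroup.center ↥(twistedE6 K q) := by
    intro x hx
    rw [Subgroup.mem_center_iff]
    intro g
    have h3 : g ∈ LL cs φ q := by rw [htop]; exact Subgroup.mem_top g
    exact ((Subgroup.mem_centralizer_iff.1 (h1 h3)) x hx).symm
  rcases (inferInstance : (Subgroup.center ↥(twistedE6 K q)).Normal).eq_bot_or_eq_top with h3 | h3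
  · rw [h3, le_bot_iff] at h2
    exact X_ne_bot (rgd cs hφ hqq r) (rho_root cs) h2
  · apply hQ.ne
    rw [← hQ.perfect, Subgroup.commutator_eq_bot_iff_le_centralizer]
    intro a _
    rw [Subgroup.mem_centralizer_iff]
    intro b _
    have h4 : a ∈ Subgroup.center ↥(twistedE6 K q) := by rw [h3]; exact Subgroup.mem_top a
    exact Subgroup.mem_center_iff.1 h4 b

include hφ hqq in
/-- **The row of `²E₆(q)`**: it is enough that every automorphism of order `p` has a conjugate which preserves a group `A`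
containing `X (± rho)` and centralising `L`. -/
theorem row_of {p : ℕ} [Fact p.Prime] [IsSimpleGroup ↥(twistedE6 K q)] (hq : 1 < q) (hK : Fintype.card K = q ^ 2)
    (H : ∀ x : MulAut ↥(twistedE6 K q), orderOf x = p → ∃ (g : ↥(twistedE6 K q)) (A : Subgroup ↥(twistedE6 K q)),
      X φ q rho ≤ A ∧ X φ q (-rho) ≤ A ∧ (∀ a ∈ A, ∀ l ∈ LL cs φ q, a * l = l * a) ∧
        ∀ a ∈ A, (MulAut.conj g * x * (MulAut.conj g)⁻¹) a ∈ A) :
    Cfsg.Agent.H533.Wf.WfRow.{u, 0} p ↥(twistedE6 K q) := by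
  refine Cfsg.Agent.H71.Wf.WfRow.of_local (qs_LL hφ hqq cs hq hK) (LL_ne_top hφ hqq cs hq hK) fun x hx => ?_
  obtain ⟨g, A, h1, h2, h3, h4⟩ := H x hx
  have hne : MulAut.conj g * x * (MulAut.conj g)⁻¹ ≠ 1 := by
    intro h5
    have h6 : x = 1 := by
      have : x = (MulAut.conj g)⁻¹ * (MulAut.conj g * x * (MulAut.conj g)⁻¹) * MulAut.conj g := by group
      rw [this, h5]; group
    rw [h6, orderOf_one] at hx
    exact (Fact.out : p.Prime).one_lt.ne hx
  obtain ⟨k, h5, l, hl, h6⟩ := exists_move hφ hqq cs hq hK h1 h2 h3 h4 hne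
  have e : MulAut.conj (k * g) * x * (MulAut.conj (k * g))⁻¹ =
      MulAut.conj k * (MulAut.conj g * x * (MulAut.conj g)⁻¹) * (MulAut.conj k)⁻¹ := by
    rw [map_mul]; group
  refine ⟨k * g, ?_, l, hl, ?_⟩
  · rw [e]; exact h5
  · rw [e]; exact h6

end Cfsg.Agent.H110.Wf6
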