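import Cfsg.Agent.H110.Wf6.Row
import Cfsg.Agent.H807.WfE6.TwSix
import Cfsg.Agent.S1070

/-!
# S3826, row `²E₆(q)`, `3 ∤ q` (helper110, with helper807)
-/

set_option autoImplicit false

namespace Cfsg.Agent.H110.Wf6

universe u

open Cfsg Cfsg.Lie

/-- **The row `²E₆(q)`, `3 ∤ q`.** -/
theorem wf_twE6 {K : Type} [Field K] [Fintype K] {q : ℕ} (hq : IsPrimePow q) (hK : Fintype.card K = q ^ 2)
    (h3 : ¬ 3 ∣ q) : Cfsg.Agent.H533.Wf.WfRow.{u, 0} 3 ↥(twistedE6 K q) := by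
  have h3p : Fact (Nat.Prime 3) := ⟨Nat.prime_three⟩
  have hs : IsSimpleGroup ↥(twistedE6 K q) := (Cfsg.Agent.S1070.result hq hK).1
  obtain ⟨r, hcr⟩ := CharP.exists K
  have hr : Fact r.Prime := ⟨CharP.char_is_prime K r⟩
  obtain ⟨n, hn0, hn⟩ : ∃ n, 0 < n ∧ q = r ^ n := by
    obtain ⟨s, n, hs, hn, h⟩ := (isPrimePow_nat_iff _).1 hq
    obtain ⟨N, -, hN⟩ := FiniteField.card K r
    have h1 : s ∣ r ^ (N : ℕ) := by
      rw [← hN, hK, ← h, ← pow_mul]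
      exact dvd_pow_self _ (by positivity)
    have h2 := (Nat.prime_dvd_prime_iff_eq hs Fact.out).1 (hs.dvd_of_dvd_pow h1)
    exact ⟨n, hn, by rw [← h, h2]⟩
  have h3r : 3 ≠ r := by
    rintro rfl
    exact h3 (by rw [hn]; exact dvd_pow_self _ hn0.ne')
  obtain ⟨φ, hφ, hqq⟩ := Cfsg.Agent.ChevalleyStructure.TwE6Basic.exists_frob hq hK
  obtain ⟨f⟩ := Cfsg.Agent.BpExc.RowsUntw.exists_emb r K
  exact row_red hφ hqq f hq.one_lt hK fun c hc =>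
    Cfsg.Agent.H807.WfE6.TwSix.red_tw hq hK f hn0 hn h3r c hc

end Cfsg.Agent.H110.Wf6
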