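import Cfsg.Agent.H110.Wf6.Fin
import Cfsg.Agent.BpExc.FamTwSix

/-!
# S3826, row `²E₆(q)`: the group `A` (helper110)

`A0 = ⟨X_a(L), X_{-a}(L)⟩ ≤ E₆(L)`, `a` the highest root; its preimage under `em q f : ²E₆(q) → E₆(L)` contains
`X (±rho)` and centralises `LL`.
-/

set_option autoImplicit false
set_option linter.unusedSectionVars false

namespace Cfsg.Agent.H110.Wf6

universe u

open CoxeterSystem Cfsg Cfsg.Lie Cfsg.Agent.ChevalleyStructure Cfsg.Agent.ChevalleyStructure.Elts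
  Cfsg.Agent.ChevalleyStructure.TwistedU Cfsg.Agent.ChevalleyStructure.TwistedFix
  Cfsg.Agent.ChevalleyStructure.CoxeterGeom Cfsg.Agent.Tits.Roots Cfsg.Agent.Tits.Core
open Cfsg.Agent.Nodes.Reps Cfsg.Agent.Nodes.BNOf Cfsg.Agent.Nodes.Coroot Cfsg.Agent.Nodes.Bruhat
  Cfsg.Agent.Nodes.RGDTwGen Cfsg.Agent.Nodes.RGDFold Cfsg.Agent.Nodes.RGDTwE6 Cfsg.Agent.Nodes.RGDChev
open Cfsg.Agent.KFacts.TwESix.Comb (bf rts mem_rts bf_rep rho rho_root rho_long bf_rho exists_rep_long cpr_rho cpr_long)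
open Cfsg.Agent.KFacts.RgdChevCoord (TT XX)
open Cfsg.Agent.GenExc
open Cfsg.Agent.BpExc.FamTw.Six (em em_injective)

/-- the highest root of `E₆` -/
def a6 : Fin 6 → ℤ := ![1, 2, 2, 3, 2, 1]

theorem V_rho : ∀ k < chevE6.nroots, (V chevE6 J k = rho → vec chevE6 6 k = a6) ∧
    (V chevE6 J k = -rho → vec chevE6 6 k = -a6) := by decide +kernel

theorem exists_a6 : (∃ k < chevE6.nroots, vec chevE6 6 k = a6 ∧ V chevE6 J k = rho) ∧
    ∃ k < chevE6.nroots, vec chevE6 6 k = -a6 ∧ V chevE6 J k = -rho := by decide +kernel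

variable {L : Type} [Field L]

/-- root subgroups orthogonal to the highest root -/
theorem XX_le {k s : ℕ} (hk : k < chevE6.nroots) (hs : s < chevE6.nroots)
    (hl : bf (V chevE6 J s) (V chevE6 J s) = 4) (h0 : 0 ≤ bf (V chevE6 J k) (V chevE6 J s)) :
    XX chevE6 6 L (vec chevE6 6 k) ≤
      Subgroup.centralizer (XX chevE6 6 L (vec chevE6 6 s) : Set ↥(chevE6.group L)) := by
  intro x hx
  rw [Subgroup.mem_centralizer_iff]
  intro y hy
  have hx' : (x : GL chevE6.Idx L) ∈ XV chevE6 6 L (vec chevE6 6 k) := Subgroup.mem_subgroupOf.1 hx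
  have hy' : (y : GL chevE6.Idx L) ∈ XV chevE6 6 L (vec chevE6 6 s) := Subgroup.mem_subgroupOf.1 hy
  rw [XV_vec hp L hk] at hx'
  rw [XV_vec hp L hs] at hy'
  obtain ⟨t, ht⟩ := (mem_rootSubgroup_iff hp.inList k _).1 hx'
  obtain ⟨u, hu⟩ := (mem_rootSubgroup_iff hp.inList s _).1 hy'
  apply Subtype.ext
  show (y : GL chevE6.Idx L) * x = x * y
  rw [ht, hu]
  exact (Cfsg.Agent.KFacts.TwESix.Grp.commute_long hs hl hk h0 t u).symm.eq

/-- `⟨X_a(L), X_{-a}(L)⟩` -/
noncomputable def A0 (L : Type) [Field L] : Subgroup ↥(chevE6.group L) := XX chevE6 6 L a6 ⊔ XX chevE6 6 L (-a6)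

variable {K : Type} [Field K] [Fintype K] {q : ℕ} {φ : K →+* K} (hφ : ∀ x, φ x = x ^ q)
  (hqq : ∀ t : K, (t ^ q) ^ q = t) {W : Type*} [Group W] (cs : CoxeterSystem CoxeterMatrix.F₄ W) (f : K →+* L)

include hφ hqq in
theorem em_le {z : Fin 4 → ℤ} {H : Subgroup ↥(chevE6.group L)}
    (hH : ∀ k < chevE6.nroots, V chevE6 J k = z → XX chevE6 6 L (vec chevE6 6 k) ≤ H) :
    (X φ q z).map (em q f) ≤ H :=
  Cfsg.Agent.H788.NB.X_le (foldGrp hφ hqq) f hH

include hφ hqq in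
theorem X_rho_le : X φ q rho ≤ (A0 L).comap (em q f) ∧ X φ q (-rho) ≤ (A0 L).comap (em q f) := by
  constructor
  · rw [← Subgroup.map_le_iff_le_comap]
    refine em_le hφ hqq f fun k hk hV => ?_
    rw [(V_rho k hk).1 hV]
    exact le_sup_left
  · rw [← Subgroup.map_le_iff_le_comap]
    refine em_le hφ hqq f fun k hk hV => ?_
    rw [(V_rho k hk).2 hV]
    exact le_sup_right

include hφ hqq in
theorem comm_A {a : ↥(twistedE6 K q)} (ha : em q f a ∈ A0 L) {l : ↥(twistedE6 K q)} (hl : l ∈ LL cs φ q) :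
    a * l = l * a := by
  have h1 : (LL cs φ q).map (em q f) ≤ Subgroup.centralizer (A0 L : Set ↥(chevE6.group L)) := by
    rw [Subgroup.map_le_iff_le_comap]
    refine RGD.Sup_le fun z hz => ?_
    rw [← Subgroup.map_le_iff_le_comap]
    obtain ⟨h2, h3⟩ := (mem_LR cs).1 hz
    refine em_le hφ hqq f fun k hk hV => ?_
    obtain ⟨⟨s, hs, e1, e2⟩, ⟨s', hs', e3, e4⟩⟩ := exists_a6
    have hbr : bf z rho = 0 := by rw [bf_rho, h3, mul_zero]
    have hbn : bf z (-rho) = 0 := by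
      have : bf z (-rho) = -bf z rho := by
        unfold bf; simp only [Pi.neg_apply]; ring
      rw [this, hbr, neg_zero]
    have h4 := XX_le (L := L) hk hs (by rw [e2]; exact rho_long) (by rw [hV, e2, hbr])
    have h5 := XX_le (L := L) hk hs' (by rw [e4]; decide +kernel) (by rw [hV, e4, hbn])
    rw [e1] at h4
    rw [e3] at h5
    intro x hx
    have h6 : A0 L ≤ Subgroup.centralizer ({x} : Set ↥(chevE6.group L)) := by
      refine sup_le (fun y hy => ?_) fun y hy => ?_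
      · rw [Subgroup.mem_centralizer_singleton_iff]
        exact (Subgroup.mem_centralizer_iff.1 (h4 hx)) y hy
      · rw [Subgroup.mem_centralizer_singleton_iff]
        exact (Subgroup.mem_centralizer_iff.1 (h5 hx)) y hy
    rw [Subgroup.mem_centralizer_iff]
    exact fun y hy => Subgroup.mem_centralizer_singleton_iff.1 (h6 hy)
  have h2 := h1 (Subgroup.mem_map_of_mem (em q f) hl)
  apply em_injective (q := q) f
  rw [map_mul, map_mul]
  exact (Subgroup.mem_centralizer_iff.1 h2) _ ha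

include hφ hqq in
/-- **The row of `²E₆(q)`**, given the reduction. -/
theorem row_red {p : ℕ} [Fact p.Prime] [IsSimpleGroup ↥(twistedE6 K q)] (hq : 1 < q) (hK : Fintype.card K = q ^ 2)
    (hred : ∀ c : MulAut ↥(twistedE6 K q), orderOf c = p → ∃ g : ↥(twistedE6 K q), ∀ s,
      em q f s ∈ A0 L → em q f ((MulAut.conj g * c * (MulAut.conj g)⁻¹) s) ∈ A0 L) :
    Cfsg.Agent.H533.Wf.WfRow.{u, 0} p ↥(twistedE6 K q) := by
  refine row_of hφ hqq CoxeterMatrix.F₄.toCoxeterSystem hq hK fun c hc => ?_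
  obtain ⟨g, hg⟩ := hred c hc
  obtain ⟨h1, h2⟩ := X_rho_le hφ hqq f
  exact ⟨g, (A0 L).comap (em q f), h1, h2, fun a ha l hl => comm_A hφ hqq _ f ha hl, hg⟩

end Cfsg.Agent.H110.Wf6
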